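import Mathlib
import Cfsg.Agent.Helper15.PSp.Defs2
import Cfsg.Agent.Helper9.Sp4P.P_CW
import Cfsg.Agent.Helper1.SL3P.P_CWE
import Cfsg.Agent.Helper9.SpGen.Final
import Cfsg.Agent.S0247

/-!
# S2292, assembly block (4b), part A (helper9): the cross relators as elements of the free product
`Sp₄(K) ∗ A_n`, and the generators `l1, l2` of `Sp₄(K)`

* `cwG4 z l1 l2 s1 s2`, `cwC2`, `cwE4 z` : `List (Monoid.Coprod (Sp4 K) (Alt m))` of lengths `13`, `2`, `3`;
* `glueGen4_iff`, `cross2_iff`, `crossE_iff`: the relations `GlueGen4`, `Cross2`, `CrossE` of helper15/helper1 for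
  `a4 : Sp4 K →* D`, `ρ : Alt m →* D` hold iff `Monoid.Coprod.lift a4 ρ` kills these lists;
* `sp4_two_generated`: `Sp₄(K)` is generated by two elements (every finite field, also `q = 2` via `Sp₄(2) ≅ S₆`).
-/

set_option autoImplicit false

namespace Cfsg.Agent.Helper9.PSpA

open Matrix Cfsg.Agent.Helper96.StC Cfsg.Agent.Helper96.StN Cfsg.Agent.Helper29.StCM
  Cfsg.Agent.Helper96.StemSLTwo Cfsg.Agent.Helper96.StPres Cfsg.Agent.Helper9.Sp4P
  Cfsg.Agent.Helper1.SL3P Cfsg.Agent.Helper1.SLNP Cfsg.Agent.Helper15.PSp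

open Monoid (Coprod)

universe u v

variable {K : Type u} [Field K] {D : Type v} [Group D] {m : ℕ}

/-! ## two generators of `Sp₄(K)` -/

theorem perm_fin_six_two_generated :
    ∃ a b : Equiv.Perm (Fin 6), Subgroup.closure ({a, b} : Set (Equiv.Perm (Fin 6))) = ⊤ :=
  ⟨finRotate 6, Equiv.swap 0 (finRotate 6 0),
    Equiv.Perm.closure_cycle_adjacent_swap (isCycle_finRotate (n := 4))
      (support_finRotate (n := 4)) 0⟩

theorem two_generated_of_equiv {G H : Type*} [Group G] [Group H] (e : G ≃* H)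
    (h : ∃ a b : H, Subgroup.closure ({a, b} : Set H) = ⊤) :
    ∃ a b : G, Subgroup.closure ({a, b} : Set G) = ⊤ := by
  obtain ⟨a, b, hab⟩ := h
  refine ⟨e.symm a, e.symm b, ?_⟩
  have h1 : (Subgroup.closure ({a, b} : Set H)).map e.symm.toMonoidHom = ⊤ := by
    rw [hab, ← MonoidHom.range_eq_map, MonoidHom.range_eq_top]
    exact e.symm.surjective
  rw [MonoidHom.map_closure] at h1
  rw [← h1]
  congr 1
  ext x
  simp [Set.image_insert_eq]

/-- `Sp₄(K)` is generated by two elements, for every finite field `K` -/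
theorem sp4_two_generated (K : Type u) [Field K] [Fintype K] :
    ∃ l1 l2 : Sp4 K, Subgroup.closure ({l1, l2} : Set (Sp4 K)) = ⊤ := by
  by_cases h2 : Fintype.card K = 2
  · obtain ⟨e⟩ := Cfsg.Agent.S0247.result (F := K) h2
    exact two_generated_of_equiv e perm_fin_six_two_generated
  · have h1 : 1 < Fintype.card K := Fintype.one_lt_card
    exact Cfsg.Agent.Helper9.SpGen.sp_two_generated (K := K) 2 le_rfl (fun _ => by omega)

/-! ## the cross relators in the free product -/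

/-- the thirteen gluing relators -/
noncomputable def cwG4 (z : Kˣ) (l1 l2 : Sp4 K) (s1 s2 : Alt m) : List (Coprod (Sp4 K) (Alt m)) :=
  wordsG4 (Coprod.inl l1) (Coprod.inl l2) (Coprod.inl (nS K * l1 * (nS K)⁻¹))
    (Coprod.inl (nS K * l2 * (nS K)⁻¹)) (Coprod.inl (i0 K (uMat K 1)))
    (Coprod.inl (i0 K (dMat (z : K) z.ne_zero))) (Coprod.inl (i0 K (WU (1 : K))))
    (Coprod.inr s1) (Coprod.inr s2) (Coprod.inr (tau m)) (Coprod.inr (sg m)) (Coprod.inr (pi0 m))

/-- the two cross relators of the short root `SL₂` with the 3-cycle -/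
noncomputable def cwC2 (K : Type u) [Field K] (m : ℕ) : List (Coprod (Sp4 K) (Alt m)) :=
  wordsC2 (Coprod.inl (eS4 K (uMat K 1))) (Coprod.inl (eS4 K (WU (1 : K)))) (Coprod.inr (c012 m))

/-- the three extra cross relators (needed for `q = 4`) -/
noncomputable def cwE4 (z : Kˣ) (m : ℕ) : List (Coprod (Sp4 K) (Alt m)) :=
  wordsE (Coprod.inl (eS4 K (uMat K 1))) (Coprod.inl (eS4 K (dMat (z : K) z.ne_zero)))
    (Coprod.inl (eS4 K (WU (1 : K)))) (Coprod.inr (c012 m))

theorem length_cwG4 (z : Kˣ) (l1 l2 : Sp4 K) (s1 s2 : Alt m) :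
    (cwG4 z l1 l2 s1 s2).length = 13 := rfl

theorem length_cwC2 : (cwC2 K m).length = 2 := rfl

theorem length_cwE4 (z : Kˣ) : (cwE4 z m).length = 3 := rfl

theorem forall_mem_map_iff {G H : Type*} [Group G] [Group H] (f : G →* H) (l : List G) :
    (∀ x ∈ l, f x = 1) ↔ ∀ y ∈ l.map f, y = 1 := by
  constructor
  · intro h y hy
    obtain ⟨x, hx, rfl⟩ := List.mem_map.1 hy
    exact h x hx
  · intro h x hx
    exact h _ (List.mem_map_of_mem hx)

theorem map_cwG4 (a4 : Sp4 K →* D) (ρ : Alt m →* D) (z : Kˣ) (l1 l2 : Sp4 K) (s1 s2 : Alt m) :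
    (cwG4 z l1 l2 s1 s2).map (Coprod.lift a4 ρ) =
      wordsG4 (a4 l1) (a4 l2) (a4 (nS K * l1 * (nS K)⁻¹)) (a4 (nS K * l2 * (nS K)⁻¹))
        (a4 (i0 K (uMat K 1))) (a4 (i0 K (dMat (z : K) z.ne_zero))) (a4 (i0 K (WU (1 : K))))
        (ρ s1) (ρ s2) (ρ (tau m)) (ρ (sg m)) (ρ (pi0 m)) := by
  rw [cwG4, map_wordsG4]
  simp only [Coprod.lift_apply_inl, Coprod.lift_apply_inr]

theorem map_cwC2 (a4 : Sp4 K →* D) (ρ : Alt m →* D) :
    (cwC2 K m).map (Coprod.lift a4 ρ) =
      wordsC2 (xe (a4.comp (eS4 K)) 1) (we (a4.comp (eS4 K))) (ρ (c012 m)) := by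
  rw [cwC2, map_wordsC2]
  simp only [Coprod.lift_apply_inl, Coprod.lift_apply_inr]
  rfl

theorem map_cwE4 (a4 : Sp4 K →* D) (ρ : Alt m →* D) (z : Kˣ) :
    (cwE4 z m).map (Coprod.lift a4 ρ) =
      wordsE (xe (a4.comp (eS4 K)) 1) (he (a4.comp (eS4 K)) z) (we (a4.comp (eS4 K)))
        (ρ (c012 m)) := by
  rw [cwE4, map_wordsE]
  simp only [Coprod.lift_apply_inl, Coprod.lift_apply_inr]
  rfl

theorem mul_inv_eq_one_iff' {G : Type*} [Group G] (a b : G) : a * b⁻¹ = 1 ↔ a = b :=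
  mul_inv_eq_one

/-- `GlueGen4` in terms of the thirteen words -/
theorem glueGen4_iff_words (a4 : Sp4 K →* D) (ρ : Alt m →* D) (z : Kˣ) (l1 l2 : Sp4 K)
    (s1 s2 : Alt m) :
    GlueGen4 a4 ρ z l1 l2 s1 s2 ↔
      ∀ w ∈ wordsG4 (a4 l1) (a4 l2) (a4 (nS K * l1 * (nS K)⁻¹)) (a4 (nS K * l2 * (nS K)⁻¹))
        (a4 (i0 K (uMat K 1))) (a4 (i0 K (dMat (z : K) z.ne_zero))) (a4 (i0 K (WU (1 : K))))
        (ρ s1) (ρ s2) (ρ (tau m)) (ρ (sg m)) (ρ (pi0 m)), w = 1 := by
  constructor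
  · intro hc w hw
    simp only [wordsG4, List.mem_cons, List.not_mem_nil, or_false] at hw
    rcases hw with rfl | rfl | rfl | rfl | rfl | rfl | rfl | rfl | rfl | rfl | rfl | rfl | rfl
    · exact (CW_commute_iff _ _).mpr hc.s1l1
    · exact (CW_commute_iff _ _).mpr hc.s1l2
    · exact (CW_commute_iff _ _).mpr hc.s2l1
    · exact (CW_commute_iff _ _).mpr hc.s2l2
    · exact mul_inv_eq_one.mpr hc.fl1
    · exact mul_inv_eq_one.mpr hc.fl2
    · exact (CW_commute_iff _ _).mpr hc.tu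
    · exact (CW_commute_iff _ _).mpr hc.th
    · exact (CW_commute_iff _ _).mpr hc.tw
    · exact (CW_commute_iff _ _).mpr hc.d11
    · exact (CW_commute_iff _ _).mpr hc.d12
    · exact (CW_commute_iff _ _).mpr hc.d21
    · exact (CW_commute_iff _ _).mpr hc.d22
  · intro h
    have hw : ∀ i (hi : i < 13), (wordsG4 (a4 l1) (a4 l2) (a4 (nS K * l1 * (nS K)⁻¹))
        (a4 (nS K * l2 * (nS K)⁻¹)) (a4 (i0 K (uMat K 1))) (a4 (i0 K (dMat (z : K) z.ne_zero)))
        (a4 (i0 K (WU (1 : K)))) (ρ s1) (ρ s2) (ρ (tau m)) (ρ (sg m)) (ρ (pi0 m)))[i]'(by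
          rw [length_wordsG4]; exact hi) = 1 :=
      fun i hi => h _ (List.getElem_mem _)
    exact
      { s1l1 := (CW_commute_iff _ _).mp (hw 0 (by norm_num))
        s1l2 := (CW_commute_iff _ _).mp (hw 1 (by norm_num))
        s2l1 := (CW_commute_iff _ _).mp (hw 2 (by norm_num))
        s2l2 := (CW_commute_iff _ _).mp (hw 3 (by norm_num))
        fl1 := mul_inv_eq_one.mp (hw 4 (by norm_num))
        fl2 := mul_inv_eq_one.mp (hw 5 (by norm_num))
        tu := (CW_commute_iff _ _).mp (hw 6 (by norm_num))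
        th := (CW_commute_iff _ _).mp (hw 7 (by norm_num))
        tw := (CW_commute_iff _ _).mp (hw 8 (by norm_num))
        d11 := (CW_commute_iff _ _).mp (hw 9 (by norm_num))
        d12 := (CW_commute_iff _ _).mp (hw 10 (by norm_num))
        d21 := (CW_commute_iff _ _).mp (hw 11 (by norm_num))
        d22 := (CW_commute_iff _ _).mp (hw 12 (by norm_num)) }

/-- `Cross2` in terms of the two words -/
theorem cross2_iff_words (a : SL2 K →* D) (c : D) :
    Cross2 a c ↔ ∀ w ∈ wordsC2 (xe a 1) (we a) c, w = 1 := by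
  constructor
  · intro hc w hw
    simp only [wordsC2, List.mem_cons, List.not_mem_nil, or_false] at hw
    rcases hw with rfl | rfl
    · exact hc.cw
    · have := hc.mul
      rw [CW_ye_one] at this
      exact mul_inv_eq_one.mpr this
  · intro h
    have hw : ∀ i (hi : i < 2), (wordsC2 (xe a 1) (we a) c)[i]'(by
        rw [length_wordsC2]; exact hi) = 1 := fun i hi => h _ (List.getElem_mem _)
    refine ⟨hw 0 (by norm_num), ?_⟩
    rw [CW_ye_one]
    exact mul_inv_eq_one.mp (hw 1 (by norm_num))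

/-- `GlueGen4` holds iff the thirteen words of the free product die -/
theorem glueGen4_iff (a4 : Sp4 K →* D) (ρ : Alt m →* D) (z : Kˣ) (l1 l2 : Sp4 K) (s1 s2 : Alt m) :
    GlueGen4 a4 ρ z l1 l2 s1 s2 ↔ ∀ x ∈ cwG4 z l1 l2 s1 s2, Coprod.lift a4 ρ x = 1 := by
  rw [forall_mem_map_iff, map_cwG4, glueGen4_iff_words]

/-- `Cross2` holds iff the two words of the free product die -/
theorem cross2_iff (a4 : Sp4 K →* D) (ρ : Alt m →* D) :
    Cross2 (a4.comp (eS4 K)) (ρ (c012 m)) ↔ ∀ x ∈ cwC2 K m, Coprod.lift a4 ρ x = 1 := by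
  rw [forall_mem_map_iff, map_cwC2, cross2_iff_words]

/-- `CrossE` holds iff the three words of the free product die -/
theorem crossE_iff (a4 : Sp4 K →* D) (ρ : Alt m →* D) (z : Kˣ) :
    CrossE (a4.comp (eS4 K)) (ρ (c012 m)) z ↔ ∀ x ∈ cwE4 z m, Coprod.lift a4 ρ x = 1 := by
  rw [forall_mem_map_iff, map_cwE4, crossE_iff_words]

/-! ## naturality -/

theorem map_AF {E : Type*} [Group E] (φ : D →* E) (a4 : Sp4 K →* D) (ρ : Alt m →* D)
    (i j : Fin (m + 4)) (g : Sp4 K) :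
    φ (AF a4 ρ i j g) = AF (φ.comp a4) (φ.comp ρ) i j g := by
  simp only [AF_apply, map_mul, map_inv, MonoidHom.comp_apply]

theorem map_XC {E : Type*} [Group E] {n : ℕ} (φ : D →* E) (A : Fin n → Fin n → (Sp4 K →* D))
    (o : Fin n → Fin n) (p q : Fin n ⊕ Fin n) (t : K) :
    φ (XC A o p q t) = XC (fun i j => φ.comp (A i j)) o p q t := by
  unfold XC
  split_ifs <;> rfl

end Cfsg.Agent.Helper9.PSpA
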