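import Mathlib
import Cfsg.Agent.Helper9.PSpA.Words
import Cfsg.Agent.Helper15.PSp.Core
import Cfsg.Agent.Helper1.PSpW.Main
import Cfsg.Agent.Helper64.SpBlk.Main
import Cfsg.Agent.Helper15.PSp.P_KEY
import Cfsg.Agent.Helper15.PSp.P_MAP
import Cfsg.Agent.Helper9.PresPSp
import Cfsg.Agent.Helper1.SLNP.P_ALT2
import Cfsg.Agent.Helper9.AltTwoGen
import Cfsg.Agent.Helper62.StCG
import Cfsg.Agent.Helper64.AltPres.Glue11

/-!
# S2292, assembly block (4b), part B (helper9): `Sp_{2n}(K)`, `n = m + 4`, is presented with at most `77` relators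
-/

set_option autoImplicit false

namespace Cfsg.Agent.Helper9.PSpA

open Matrix Cfsg.Agent.Helper96.StC Cfsg.Agent.Helper96.StN Cfsg.Agent.Helper29.StCM
  Cfsg.Agent.Helper96.StemSLTwo Cfsg.Agent.Helper96.StPres Cfsg.Agent.Helper9.Sp4P
  Cfsg.Agent.Helper1.SL3P Cfsg.Agent.Helper1.SLNP Cfsg.Agent.Helper15.PSp
  Cfsg.Agent.Helper64.SpBlk.Final

open Monoid (Coprod)

universe u v

variable {K : Type u} [Field K] {D : Type v} [Group D] {m : ℕ}

theorem tau_p0 (m : ℕ) : (tau m).1 (p0 m) = p0 m := by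
  change (Equiv.swap (p1 m) (p2 m) * Equiv.swap (p2 m) (p3 m)) (p0 m) = p0 m
  rw [Equiv.Perm.mul_apply, Equiv.swap_apply_of_ne_of_ne (p0_ne_p2 m) (p0_ne_p3 m),
    Equiv.swap_apply_of_ne_of_ne (p0_ne_p1 m) (p0_ne_p2 m)]

/-- the relations on the generators follow from the relations for all elements -/
theorem glueGen4_of_glue4 {a4 : Sp4 K →* D} {ρ : Alt m →* D} (hG : Glue4 a4 ρ) (z : Kˣ)
    (l1 l2 : Sp4 K) {s1 s2 : Alt m} (h10 : s1.1 (p0 m) = p0 m) (h11 : s1.1 (p1 m) = p1 m)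
    (h20 : s2.1 (p0 m) = p0 m) (h21 : s2.1 (p1 m) = p1 m) : GlueGen4 a4 ρ z l1 l2 s1 s2 :=
  { s1l1 := hG.st s1 h10 h11 l1
    s1l2 := hG.st s1 h10 h11 l2
    s2l1 := hG.st s2 h20 h21 l1
    s2l2 := hG.st s2 h20 h21 l2
    fl1 := hG.fl l1
    fl2 := hG.fl l2
    tu := hG.lg (tau m) (tau_p0 m) _
    th := hG.lg (tau m) (tau_p0 m) _
    tw := hG.lg (tau m) (tau_p0 m) _
    d11 := hG.dj l1 l1
    d12 := hG.dj l1 l2
    d21 := hG.dj l2 l1
    d22 := hG.dj l2 l2 }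

/-- the auxiliary second index -/
def oAux (m : ℕ) (i : Fin (m + 4)) : Fin (m + 4) := if i = p0 m then p1 m else p0 m

theorem oAux_ne (m : ℕ) (i : Fin (m + 4)) : oAux m i ≠ i := by
  unfold oAux
  split_ifs with h
  · rw [h]; exact (p0_ne_p1 m).symm
  · exact fun e => h e.symm

/-- all cross relators -/
noncomputable def cwAll [Fintype K] (z : Kˣ) (l1 l2 : Sp4 K) (s1 s2 : Alt m) :
    List (Coprod (Sp4 K) (Alt m)) :=
  cwG4 z l1 l2 s1 s2 ++ cwC2 K m ++ (if Fintype.card K = 4 then cwE4 z m else [])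

theorem length_cwAll [Fintype K] (z : Kˣ) (l1 l2 : Sp4 K) (s1 s2 : Alt m) :
    (cwAll z l1 l2 s1 s2).length ≤ 18 := by
  unfold cwAll
  rw [List.length_append, List.length_append, length_cwG4, length_cwC2]
  split_ifs
  · rw [length_cwE4]
  · simp

section core

variable [Fintype K] {z : Kˣ} {l1 l2 : Sp4 K} {s1 s2 : Alt m}

theorem mem_cwAll_G {x : Coprod (Sp4 K) (Alt m)} (hx : x ∈ cwG4 z l1 l2 s1 s2) :
    x ∈ cwAll z l1 l2 s1 s2 :=
  List.mem_append_left _ (List.mem_append_left _ hx)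

theorem mem_cwAll_C {x : Coprod (Sp4 K) (Alt m)} (hx : x ∈ cwC2 K m) :
    x ∈ cwAll z l1 l2 s1 s2 :=
  List.mem_append_left _ (List.mem_append_right _ hx)

theorem mem_cwAll_E (h4 : Fintype.card K = 4) {x : Coprod (Sp4 K) (Alt m)} (hx : x ∈ cwE4 z m) :
    x ∈ cwAll z l1 l2 s1 s2 := by
  apply List.mem_append_right
  rw [if_pos h4]
  exact hx

/-- **the recognition**: a group generated by images of `Sp₄(K)` and `A_n` in which the cross relators hold maps
injectively to `Sp_{2n}(K)` -/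
theorem core_injective (hz : ∀ s : Kˣ, ∃ n : ℕ, z ^ n = s)
    (hl : Subgroup.closure ({l1, l2} : Set (Sp4 K)) = ⊤)
    (hs : ∀ π : Alt m, π.1 (p0 m) = p0 m → π.1 (p1 m) = p1 m →
      π ∈ Subgroup.closure ({s1, s2} : Set (Alt m)))
    (a4 : Sp4 K →* D) (ρ : Alt m →* D) (htop : a4.range ⊔ ρ.range = ⊤)
    (hcw : ∀ x ∈ cwAll z l1 l2 s1 s2, Coprod.lift a4 ρ x = 1)
    (φ : D →* Matrix.symplecticGroup (Fin (m + 4)) K) (h1 : φ.comp a4 = jM K m)
    (h2 : φ.comp ρ = rhoS K m) : Function.Injective φ := by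
  have hGG : GlueGen4 a4 ρ z l1 l2 s1 s2 :=
    (glueGen4_iff a4 ρ z l1 l2 s1 s2).2 (fun x hx => hcw x (mem_cwAll_G hx))
  have hG : Glue4 a4 ρ := glue4_of_gen hz hl hs hGG
  have hC : Cross2 (a4.comp (eS4 K)) (ρ (c012 m)) :=
    (cross2_iff a4 ρ).2 (fun x hx => hcw x (mem_cwAll_C hx))
  have hE : Fintype.card K = 4 → CrossE (a4.comp (eS4 K)) (ρ (c012 m)) z :=
    fun h4 => (crossE_iff a4 ρ z).2 (fun x hx => hcw x (mem_cwAll_E h4 hx))
  have h3 := stRel_X3_of_cross2 hz hG hC hE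
  have hF : Fam (AF a4 ρ) := fam_of_glue4 hG h3
  have hX : SpRel (XC (AF a4 ρ) (oAux m)) := spRel_XC (by omega) hF (oAux m) (oAux_ne m)
  have hgen := gen_XC hG hC (oAux m)
    (fun i j hij p q h t => XC_em hF (oAux m) (oAux_ne m) hij p q h t) htop
  refine Cfsg.Agent.Helper96.StC.phi_injective (by omega) hX hgen φ ?_
  intro p q hpq t
  rw [map_XC]
  have e : (fun i j => φ.comp (AF a4 ρ i j)) = AF (jM K m) (rhoS K m) := by
    funext i j
    apply MonoidHom.ext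
    intro g
    rw [MonoidHom.comp_apply, map_AF, h1, h2]
  rw [e, XC_model K m (oAux m) (oAux_ne m) p q hpq t, spT_coe hpq]

end core

section model

variable [Fintype K]

theorem model_cwAll (z : Kˣ) (l1 l2 : Sp4 K) {s1 s2 : Alt m} (h10 : s1.1 (p0 m) = p0 m)
    (h11 : s1.1 (p1 m) = p1 m) (h20 : s2.1 (p0 m) = p0 m) (h21 : s2.1 (p1 m) = p1 m) :
    ∀ x ∈ cwAll z l1 l2 s1 s2, Coprod.lift (jM K m) (rhoS K m) x = 1 := by
  intro x hx
  unfold cwAll at hx
  rcases List.mem_append.1 hx with hx | hx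
  · rcases List.mem_append.1 hx with hx | hx
    · exact (glueGen4_iff (jM K m) (rhoS K m) z l1 l2 s1 s2).1
        (glueGen4_of_glue4 (glue4_model K m) z l1 l2 h10 h11 h20 h21) x hx
    · exact (cross2_iff (jM K m) (rhoS K m)).1 (cross2_model K m) x hx
  · split_ifs at hx with h4
    · exact (crossE_iff (jM K m) (rhoS K m) z).1 (crossE_model K m z) x hx
    · simp at hx

theorem model_range_top : (jM K m).range ⊔ (rhoS K m).range = ⊤ := by
  rw [eq_top_iff, ← Cfsg.Agent.Helper62.StCG.closure_root_eq_top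
    (T := fun p q t => (spT p q t : Matrix.symplecticGroup (Fin (m + 4)) K))
    (fun p q hpq t => spT_coe hpq t), Subgroup.closure_le]
  rintro _ ⟨p, q, hpq, t, rfl⟩
  change spT p q t ∈ _
  rw [← XC_model K m (oAux m) (oAux_ne m) p q hpq t]
  have hAF : ∀ i j g, AF (jM K m) (rhoS K m) i j g ∈ (jM K m).range ⊔ (rhoS K m).range := by
    intro i j g
    rw [AF_apply]
    exact mul_mem (mul_mem (Subgroup.mem_sup_right ⟨_, rfl⟩) (Subgroup.mem_sup_left ⟨_, rfl⟩))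
      (inv_mem (Subgroup.mem_sup_right ⟨_, rfl⟩))
  unfold XC
  split_ifs
  · exact hAF _ _ _
  · exact hAF _ _ _

end model

/-- **`Sp_{2n}(K)`, `n = m + 4`, has a presentation with at most `77` relators** -/
theorem sp_presentation_n4 (K : Type u) [Field K] [Fintype K] (m : ℕ) :
    ∃ (α : Type) (rels : Finset (FreeGroup α)), rels.card ≤ 77 ∧
      Nonempty (PresentedGroup (↑rels : Set (FreeGroup α)) ≃*
        Matrix.symplecticGroup (Fin (m + 4)) K) := by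
  classical
  obtain ⟨k, relsA, hcardA, ⟨eAlt⟩⟩ :=
    Cfsg.Agent.Helper64.AltPres.exists_alt_presentation25 (m + 4) (by omega)
  obtain ⟨z, hz⟩ : ∃ z : Kˣ, ∀ s : Kˣ, ∃ n : ℕ, z ^ n = s := by
    obtain ⟨g, hg⟩ := IsCyclic.exists_monoid_generator (α := Kˣ)
    exact ⟨g, fun s => by
      obtain ⟨n, hn⟩ := (Submonoid.mem_powers_iff s g).1 (hg s)
      exact ⟨n, hn⟩⟩
  obtain ⟨l1, l2, hl⟩ := sp4_two_generated K
  obtain ⟨s1, s2, h10, h11, h20, h21, hs⟩ := exists_stab_gens m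
    (fun α _ _ => Cfsg.Agent.Helper9.AltTwoGen.alt_two_generated α)
  exact Cfsg.Agent.Helper9.PresPSp.sp_presentation_of_core (m + 4) relsA eAlt (by omega)
    (cwAll z l1 l2 s1 s2) (length_cwAll z l1 l2 s1 s2) (jM K m) (rhoS K m)
    (model_cwAll z l1 l2 h10 h11 h20 h21) model_range_top
    (fun D _ a₁ a₂ htop hcw φ h1 h2 => core_injective hz hl hs a₁ a₂ htop hcw φ h1 h2)

end Cfsg.Agent.Helper9.PSpA
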